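import Groth.Agent.Misc3Fitt.Strict
import Groth.Agent.Misc3Fitt.Split
import Groth.Agent.Misc7.DetVanish
import Groth.Agent.GrassRep.Basic

/-!
Fitting ideals and quotients of locally free rank `d`: such a quotient is the quotient by the torsion
when the `d`-th Fitting ideal is generated by a nonzerodivisor; minors of a matrix with quotients of
the cokernels of it and of its transpose.
-/

set_option autoImplicit false
set_option linter.style.haveILetI false

universe u

open TensorProduct Matrix Module Groth.Misc3Fitt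

namespace Groth.Misc7.DegeneracyBlowUp

variable {A : Type u} [CommRing A] {M : Type u} [AddCommGroup M] [Module A M]

/-- The lower Fitting ideals of a locally free module of rank `d` vanish. -/
theorem ideal_eq_bot_of_rank {d k : ℕ} [Module.Finite A M] [Module.Projective A M]
    (hd : ∀ p, Module.rankAtStalk (R := A) M p = d) (hk : k < d) : Fitt.ideal A M k = ⊥ := by
  classical
  rw [eq_bot_iff, Fitt.ideal, Ideal.span_le]
  rintro _ ⟨n, x, a, hx, ha, rfl⟩
  refine Groth.Misc7.DetVanish.det_eq_zero_of_rows d hd (Fintype.linearCombination A x) ?_ a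
    (Finset.univ.filter fun i : Fin n => (i : ℕ) < n - k) (fun i hi => ?_) ?_
  · rw [← LinearMap.range_eq_top, Fintype.range_linearCombination, hx]
  · rw [Fintype.linearCombination_apply]
    exact ha i (Finset.mem_filter.mp hi).2
  · have h : (Finset.univ.filter fun i : Fin n => (i : ℕ) < n - k).card = n - k := by
      rw [Fin.card_filter_val_lt]; omega
    omega

/-- The kernel of a quotient of rank `d` is killed by the `d`-th Fitting ideal. -/
theorem ideal_le_annihilator_grass [Module.Finite A M] {d : ℕ} (N : Grassmannian A M d) :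
    Fitt.ideal A M d ≤ Module.annihilator A N.toSubmodule := by
  classical
  let q := N.toSubmodule.mkQ
  obtain ⟨s, hs⟩ := Module.projective_lifting_property q LinearMap.id N.toSubmodule.mkQ_surjective
  have hqs : ∀ z, q (s z) = z := fun z => LinearMap.congr_fun hs z
  let pr : M →ₗ[A] N.toSubmodule := (LinearMap.id - s ∘ₗ q).codRestrict _ fun x => by
    refine (Submodule.Quotient.mk_eq_zero _).1 ?_
    show q (x - s (q x)) = 0
    rw [map_sub, hqs, sub_self]
  have hpr : ∀ x : N.toSubmodule, pr x = x := fun x => by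
    refine Subtype.ext ?_
    show (x : M) - s (q x) = x
    rw [show q (x : M) = 0 from (Submodule.Quotient.mk_eq_zero _).2 x.2, map_zero, sub_zero]
  haveI : Module.Finite A N.toSubmodule :=
    Module.Finite.of_surjective pr fun x => ⟨x, hpr x⟩
  let e : M ≃ₗ[A] N.toSubmodule × (M ⧸ N.toSubmodule) :=
    LinearEquiv.ofLinear (pr.prod q) (N.toSubmodule.subtype.coprod s)
      (by
        refine LinearMap.ext fun ⟨x, z⟩ => ?_
        have hx : q (x : M) = 0 := (Submodule.Quotient.mk_eq_zero _).2 x.2
        refine Prod.ext (Subtype.ext ?_) ?_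
        · show ((x : M) + s z) - s (q ((x : M) + s z)) = x
          rw [map_add, hx, hqs, zero_add, add_sub_cancel_right]
        · show q ((x : M) + s z) = z
          rw [map_add, hx, hqs, zero_add])
      (LinearMap.ext fun x => sub_add_cancel x (s (q x)))
  rw [ideal_congr e, ideal_prod, Ideal.sum_eq_sup, Finset.sup_le_iff]
  intro k hk'
  rcases Nat.eq_zero_or_pos k with rfl | hk
  · exact Ideal.mul_le_left.trans ideal_le_annihilator
  · have hkd := Finset.mem_range.1 hk'
    rw [ideal_eq_bot_of_rank N.rankAtStalk_eq (show d - k < d by omega), Ideal.mul_bot]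
    exact bot_le

/-- If the `d`-th Fitting ideal is generated by a nonzerodivisor `t` then a quotient of rank `d` is
the quotient by the `t`-torsion. -/
theorem grass_eq_torsion [Module.Finite A M] {d : ℕ} (N : Grassmannian A M d) {t : A}
    (ht : t ∈ nonZeroDivisors A) (h : Fitt.ideal A M d = Ideal.span {t}) :
    N.toSubmodule = Submodule.torsionBy A M t := by
  ext z
  rw [Submodule.mem_torsionBy_iff]
  refine ⟨fun hz => ?_, fun hz => ?_⟩
  · have := Module.mem_annihilator.1
      (ideal_le_annihilator_grass N (h ▸ Ideal.mem_span_singleton_self t : t ∈ Fitt.ideal A M d)) ⟨z, hz⟩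
    exact congrArg Subtype.val this
  · rw [← Submodule.Quotient.mk_eq_zero]
    obtain ⟨n, f, g, -, -, hfg⟩ :=
      Module.Finite.exists_comp_eq_id_of_projective A (M ⧸ N.toSubmodule)
    have hg : g (Submodule.Quotient.mk z) = 0 := by
      funext i
      refine ht.1 _ ?_
      show t * g (Submodule.Quotient.mk z) i = 0
      rw [← smul_eq_mul, ← Pi.smul_apply, ← map_smul, ← Submodule.Quotient.mk_smul, hz,
        Submodule.Quotient.mk_zero, map_zero]
      rfl
    have := LinearMap.congr_fun hfg (Submodule.Quotient.mk z)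
    rw [LinearMap.comp_apply, hg, map_zero] at this
    exact this.symm

/-- If `Fit_d = (t)` with `t` a nonzerodivisor and the lower Fitting ideals vanish, the quotient by the
`t`-torsion is locally free of rank `d`. -/
theorem exists_grass [Module.Finite A M] {d : ℕ} {t : A} (ht : t ∈ nonZeroDivisors A)
    (h : Fitt.ideal A M d = Ideal.span {t}) (h0 : ∀ j < d, Fitt.ideal A M j = ⊥) :
    ∃ N : Grassmannian A M d, N.toSubmodule = Submodule.torsionBy A M t := by
  let T := Submodule.torsionBy A M t
  have htop : Fitt.ideal A (M ⧸ T) d = ⊤ := by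
    refine ideal_quotient_eq_top t ht T (fun m hm => hm) ?_
    refine Ideal.span_mono ?_ (fitt_le_span_det (h ▸ Ideal.mem_span_singleton_self t : t ∈ Fitt.ideal A M d))
    rintro _ ⟨D, rfl⟩
    exact ⟨D, fun e he => h ▸ D.elts_subset he, rfl⟩
  have hbot : ∀ j < d, Fitt.ideal A (M ⧸ T) j = ⊥ := fun j hj =>
    ideal_quotient_eq_bot ht T (fun m hm => hm) (h0 j hj)
  have htop' : ∀ j, d ≤ j → Fitt.ideal A (M ⧸ T) j = ⊤ := fun j hj =>
    top_le_iff.1 (htop.ge.trans (Groth.Misc3Fitt.ideal_mono hj))
  obtain ⟨hfp, hproj⟩ := projective_of_locallyFree (N := M ⧸ T) fun p _ => by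
    obtain ⟨f, hf, hfree, -⟩ := (locallyFree_rank_iff d).2 ⟨hbot, htop'⟩ p
    exact ⟨f, hf, hfree⟩
  refine ⟨⟨T, inferInstance, hproj, fun p => ?_⟩, rfl⟩
  rw [Module.rankAtStalk_eq]
  let K := p.asIdeal.ResidueField
  have key : ∀ k, (if Module.finrank K (K ⊗[A] (M ⧸ T)) ≤ k then (⊤ : Ideal K) else ⊥) =
      (Fitt.ideal A (M ⧸ T) k).map (algebraMap A K) := fun k => by
    rw [← ideal_baseChange, ideal_of_basis (Module.finBasis K (K ⊗[A] (M ⧸ T)))]
  refine le_antisymm ?_ (not_lt.1 fun hlt => ?_)
  · by_contra hne
    have := key d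
    rw [htop, Ideal.map_top, if_neg hne] at this
    exact bot_ne_top this
  · have := key (Module.finrank K (K ⊗[A] (M ⧸ T)))
    rw [hbot _ hlt, Ideal.map_bot, if_pos le_rfl] at this
    exact top_ne_bot this

section Matrix

variable {R : Type u} [CommRing R]

/-- The ideal of `r × r` minors of a matrix. -/
def minorsIdeal {n m : ℕ} (S : Matrix (Fin n) (Fin m) R) (r : ℕ) : Ideal R :=
  Ideal.span {x | ∃ (e : Fin r → Fin n) (c : Fin r → Fin m), x = (S.submatrix e c).det}

theorem minorsIdeal_transpose {n m : ℕ} (S : Matrix (Fin n) (Fin m) R) (r : ℕ) :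
    minorsIdeal Sᵀ r = minorsIdeal S r := by
  refine le_antisymm (Ideal.span_mono ?_) (Ideal.span_mono ?_) <;>
    rintro _ ⟨e, c, rfl⟩ <;> refine ⟨c, e, ?_⟩ <;>
    · rw [← Matrix.det_transpose, Matrix.transpose_submatrix]
      try rw [Matrix.transpose_transpose]

theorem minorsIdeal_map {S' : Type u} [CommRing S'] (φ : R →+* S') {n m : ℕ}
    (S : Matrix (Fin n) (Fin m) R) (r : ℕ) :
    (minorsIdeal S r).map φ = minorsIdeal (S.map φ) r := by
  rw [minorsIdeal, Ideal.map_span, minorsIdeal]
  congr 1
  ext x
  constructor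
  · rintro ⟨_, ⟨e, c, rfl⟩, rfl⟩
    exact ⟨e, c, by rw [RingHom.map_det]; rfl⟩
  · rintro ⟨e, c, rfl⟩
    exact ⟨_, ⟨e, c, rfl⟩, by rw [RingHom.map_det]; rfl⟩

/-- The Fitting ideals of the cokernel of a matrix are its ideals of minors. -/
theorem ideal_of_presentation {N : Type u} [AddCommGroup N] [Module R N] {n m : ℕ} (g : Fin n → N)
    (hg : Submodule.span R (Set.range g) = ⊤) (S : Matrix (Fin n) (Fin m) R)
    (hS : rel (R := R) g = Submodule.span R (Set.range fun c l => S l c)) (j : ℕ) :
    Fitt.ideal R N j = minorsIdeal S (n - j) := by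
  rw [ideal_eq_fitt g hg, fitt, hS, minors_span_eq, minorsIdeal]
  congr 1
  ext x
  constructor
  · rintro ⟨z, e, hz, rfl⟩
    choose c hc using hz
    refine ⟨e, c, ?_⟩
    rw [← minor_transpose]
    congr 1
    ext a b
    exact (congrFun (hc b) (e a)).symm
  · rintro ⟨e, c, rfl⟩
    exact ⟨fun b l => S l (c b), e, fun b => ⟨c b, rfl⟩, minor_transpose e fun b l => S l (c b)⟩

/-- A product through `r` is generated in minors by one determinant. -/
theorem minorsIdeal_eq_span_det {n m r : ℕ} (S : Matrix (Fin n) (Fin m) R) (J : Fin r → Fin n)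
    (L : Fin r → Fin m) (D : Matrix (Fin n) (Fin r) R) (E : Matrix (Fin m) (Fin r) R)
    (hD : S = D * S.submatrix J id) (hE : Sᵀ = E * Sᵀ.submatrix L id) :
    minorsIdeal S r = Ideal.span {(S.submatrix J L).det} := by
  refine le_antisymm (Ideal.span_le.2 ?_) (Ideal.span_mono ?_)
  · rintro _ ⟨e, c, rfl⟩
    have hS : S = D * (S.submatrix J L * Eᵀ) := by
      have h1 : S.submatrix J id = S.submatrix J L * Eᵀ := by
        conv_lhs => rw [← Matrix.transpose_transpose S, hE, Matrix.transpose_mul]
        rw [Matrix.transpose_submatrix, Matrix.transpose_transpose, Matrix.submatrix_mul _ _ J id id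
          Function.bijective_id, Matrix.submatrix_id_id, Matrix.submatrix_submatrix]
        simp
      rw [← h1]; exact hD
    rw [SetLike.mem_coe, Ideal.mem_span_singleton]
    rw [congrArg (fun T : Matrix (Fin n) (Fin m) R => T.submatrix e c) hS,
      Matrix.submatrix_mul _ _ e id c Function.bijective_id,
      Matrix.submatrix_mul _ _ id id c Function.bijective_id, Matrix.det_mul, Matrix.det_mul,
      Matrix.submatrix_id_id]
    exact Dvd.dvd.mul_left (dvd_mul_right _ _) _
  · rintro _ rfl
    exact ⟨J, L, rfl⟩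

end Matrix

/-- In a chart of the Grassmannian of quotients of a presented module, the presentation matrix factors
through the complementary rows. -/
theorem exists_row_factor {R : Type u} [CommRing R] {M : Type u} [AddCommGroup M] [Module R M]
    [Algebra R A] [Nontrivial A] {n m d : ℕ} (g : Fin n → M) (S : Matrix (Fin n) (Fin m) R)
    (hS : ∀ c, ∑ l, S l c • g l = 0) (J : Fin d → Fin n) {N : Grassmannian A (A ⊗[R] M) d}
    (hN : Groth.GrassRep.InChart (g ∘ J) N) :
    d ≤ n ∧ ∃ (Jc : Fin (n - d) → Fin n) (D : Matrix (Fin n) (Fin (n - d)) A),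
      S.map (algebraMap R A) = D * (S.map (algebraMap R A)).submatrix Jc id := by
  classical
  let C : Fin n → Fin d → A := fun l => Groth.GrassRep.coef hN (g l)
  have hCJ : ∀ i, C (J i) = Pi.single i 1 := fun i => Groth.GrassRep.coef_self hN i
  have hCS : ∀ c i, ∑ l, algebraMap R A (S l c) * C l i = 0 := fun c i => by
    have := congrFun (congrArg (Groth.GrassRep.coef hN) (hS c)) i
    simpa [map_sum, map_smul, Finset.sum_apply, Algebra.smul_def, C] using this
  have hJ : Function.Injective J := fun i i' hii => by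
    by_contra hne
    have h1 := congrFun ((hCJ i).symm.trans ((congrArg C hii).trans (hCJ i'))) i
    rw [Pi.single_eq_same, Pi.single_eq_of_ne hne] at h1
    exact one_ne_zero h1
  have hd : d ≤ n := by simpa using Fintype.card_le_of_injective J hJ
  let s : Finset (Fin n) := (Finset.univ.image J)ᶜ
  have hs : s.card = n - d := by
    rw [Finset.card_compl, Finset.card_image_of_injective _ hJ, Finset.card_univ, Fintype.card_fin,
      Fintype.card_fin]
  let e : Fin (n - d) ≃o s := s.orderIsoOfFin hs
  let P : Matrix (Fin n) (Fin n) A := fun l q =>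
    (if l = q then 1 else 0) - ∑ i, if l = J i then C q i else 0
  refine ⟨hd, fun a => (e a).1, fun l a => P l (e a).1, ?_⟩
  ext l c
  rw [Matrix.mul_apply]
  simp only [Matrix.map_apply, Matrix.submatrix_apply, id_eq]
  have hPJ : ∀ i, P l (J i) = 0 := fun i => by
    simp only [P, hCJ, Pi.single_apply]
    by_cases h : l = J i
    · subst h
      simp [hJ.eq_iff]
    · rw [if_neg h, zero_sub, neg_eq_zero, Finset.sum_eq_zero]
      intro i' _
      split_ifs with h1 h2
      · exact absurd (h2 ▸ h1) h
      · rfl
      · rfl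
  have hP : ∑ q, P l q * algebraMap R A (S q c) = algebraMap R A (S l c) := by
    simp only [P, sub_mul, Finset.sum_sub_distrib, Finset.sum_mul, ite_mul, one_mul, zero_mul,
      Finset.sum_ite_eq, Finset.mem_univ, if_true]
    rw [Finset.sum_comm, Finset.sum_eq_zero (s := Finset.univ), sub_zero]
    intro i _
    by_cases h : l = J i
    · simp only [if_pos h]
      rw [← hCS c i]
      exact Finset.sum_congr rfl fun q _ => mul_comm _ _
    · simp only [if_neg h, Finset.sum_const_zero]
  conv_lhs => rw [← hP, ← Finset.sum_compl_add_sum (Finset.univ.image J)]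
  rw [Finset.sum_image (fun i _ i' _ h => hJ h), Finset.sum_eq_zero (s := (Finset.univ : Finset (Fin d)))
    (fun i _ => by rw [hPJ, zero_mul]), add_zero, ← Finset.sum_coe_sort]
  exact (Equiv.sum_comp e.toEquiv (fun q : s => P l q.1 * algebraMap R A (S q.1 c))).symm

end Groth.Misc7.DegeneracyBlowUp
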