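import Groth.Agent.Misc7.DegeneracyBlowUp.Scheme
import Groth.Prelude.Def_CurvBase
import Groth.Agent.HTopHyper.HSheafAlmostBlowUp

/-!
The product of the two Quot schemes of a module of homological dimension at most one is the blow-up
of the degeneracy locus.
-/

set_option autoImplicit false
set_option backward.isDefEq.respectTransparency false
set_option linter.style.haveILetI false

universe u

open CategoryTheory CategoryTheory.Limits AlgebraicGeometry TensorProduct Matrix
open Groth.BlowUpBasics Groth.GrassRep Groth.Misc3Fitt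

namespace Groth.Misc7.DegeneracyBlowUp

variable {R : Type u} [CommRing R] {m n : ℕ} (σ : (Fin m → R) →ₗ[R] (Fin n → R))

/-- The standard generators of the cokernel. -/
def gen (l : Fin n) : (Fin n → R) ⧸ LinearMap.range σ := Submodule.Quotient.mk (Pi.single l 1)

/-- The standard generators of the cokernel of the dual map. -/
noncomputable def dualGen (i : Fin m) : Module.Dual R (Fin m → R) ⧸ LinearMap.range σ.dualMap :=
  Submodule.Quotient.mk (dotProductEquiv R (Fin m) (Pi.single i 1))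

theorem range_eq_span_cols :
    LinearMap.range σ = Submodule.span R (Set.range fun c l => LinearMap.toMatrix' σ l c) := by
  conv_lhs => rw [← Matrix.toLin'_toMatrix' σ]
  rw [Matrix.toLin'_apply', Matrix.range_mulVecLin]
  rfl

theorem sum_smul_gen (c : Fin n → R) : ∑ l, c l • gen σ l = Submodule.Quotient.mk c := by
  conv_rhs => rw [pi_eq_sum_univ c, ← Submodule.mkQ_apply, map_sum]
  refine Finset.sum_congr rfl fun l _ => ?_
  rw [map_smul, Submodule.mkQ_apply, gen]
  congr 2
  funext j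
  simp [Pi.single_apply, eq_comm]

theorem span_gen : Submodule.span R (Set.range (gen σ)) = ⊤ := by
  refine eq_top_iff.2 fun z _ => ?_
  obtain ⟨c, rfl⟩ := Submodule.Quotient.mk_surjective _ z
  exact (Submodule.mem_span_range_iff_exists_fun R).2 ⟨c, sum_smul_gen σ c⟩

theorem rel_gen : rel (R := R) (gen σ) =
    Submodule.span R (Set.range fun c l => LinearMap.toMatrix' σ l c) := by
  rw [← range_eq_span_cols]
  ext c
  rw [mem_rel, sum_smul_gen, Submodule.Quotient.mk_eq_zero]

theorem fitt_coker (j : ℕ) : Fitt.ideal R ((Fin n → R) ⧸ LinearMap.range σ) j =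
    minorsIdeal (LinearMap.toMatrix' σ) (n - j) :=
  ideal_of_presentation (gen σ) (span_gen σ) _ (rel_gen σ) j

theorem dualMap_dotProduct (v : Fin n → R) : σ.dualMap (dotProductEquiv R (Fin n) v) =
    dotProductEquiv R (Fin m) ((LinearMap.toMatrix' σ)ᵀ *ᵥ v) := by
  refine LinearMap.ext fun w => ?_
  show v ⬝ᵥ σ w = ((LinearMap.toMatrix' σ)ᵀ *ᵥ v) ⬝ᵥ w
  rw [Matrix.mulVec_transpose, ← Matrix.dotProduct_mulVec]
  congr 1
  exact (LinearMap.toMatrix'_mulVec σ w).symm

theorem sum_smul_dualGen (c : Fin m → R) :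
    ∑ l, c l • dualGen σ l = Submodule.Quotient.mk (dotProductEquiv R (Fin m) c) := by
  conv_rhs => rw [pi_eq_sum_univ c, map_sum, ← Submodule.mkQ_apply, map_sum]
  refine Finset.sum_congr rfl fun l _ => ?_
  rw [map_smul, map_smul, Submodule.mkQ_apply, dualGen]
  congr 3
  funext j
  simp [Pi.single_apply, eq_comm]

theorem span_dualGen : Submodule.span R (Set.range (dualGen σ)) = ⊤ := by
  refine eq_top_iff.2 fun z _ => ?_
  obtain ⟨f, rfl⟩ := Submodule.Quotient.mk_surjective _ z
  obtain ⟨c, rfl⟩ := (dotProductEquiv R (Fin m)).surjective f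
  exact (Submodule.mem_span_range_iff_exists_fun R).2 ⟨c, sum_smul_dualGen σ c⟩

theorem rel_dualGen : rel (R := R) (dualGen σ) =
    Submodule.span R (Set.range fun c l => (LinearMap.toMatrix' σ)ᵀ l c) := by
  have hspan : Submodule.span R (Set.range fun c l => (LinearMap.toMatrix' σ)ᵀ l c) =
      LinearMap.range (LinearMap.toMatrix' σ)ᵀ.mulVecLin := (Matrix.range_mulVecLin _).symm
  rw [hspan]
  ext c
  rw [mem_rel, sum_smul_dualGen, Submodule.Quotient.mk_eq_zero, LinearMap.mem_range, LinearMap.mem_range]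
  constructor
  · rintro ⟨f, hf⟩
    obtain ⟨v, rfl⟩ := (dotProductEquiv R (Fin n)).surjective f
    refine ⟨v, ?_⟩
    rw [dualMap_dotProduct] at hf
    exact (dotProductEquiv R (Fin m)).injective hf
  · rintro ⟨v, rfl⟩
    exact ⟨dotProductEquiv R (Fin n) v, dualMap_dotProduct σ v⟩

theorem fitt_dualCoker (j : ℕ) :
    Fitt.ideal R (Module.Dual R (Fin m → R) ⧸ LinearMap.range σ.dualMap) j =
      minorsIdeal (LinearMap.toMatrix' σ) (m - j) :=
  (ideal_of_presentation (dualGen σ) (span_dualGen σ) _ (rel_dualGen σ) j).trans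
    (minorsIdeal_transpose _ _)

theorem sum_rel_eq_zero {N : Type u} [AddCommGroup N] [Module R N] {n' m' : ℕ} {g : Fin n' → N}
    {S : Matrix (Fin n') (Fin m') R}
    (h : rel (R := R) g = Submodule.span R (Set.range fun c l => S l c)) (c : Fin m') :
    ∑ l, S l c • g l = 0 :=
  mem_rel.1 (h ▸ Submodule.subset_span ⟨c, rfl⟩ : (fun l => S l c) ∈ rel (R := R) g)

/-- The Fitting ideal is principal near every point of a scheme mapping to both Quot schemes. -/
theorem exists_principal {d δ : ℕ} (hn : n = m + δ) (hd : δ ≤ d)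
    (T : Over (Spec (CommRingCat.of R))) (y : T.left)
    {Bp Bm : Over (Spec (CommRingCat.of R))}
    (ep : ∀ A : CommAlgCat.{u} R, (Pt A ⟶ Bp) ≃
      (Module.Grassmannian.functor (R := R) (M := ((Fin n → R) ⧸ LinearMap.range σ)) d).obj A)
    (em : ∀ A : CommAlgCat.{u} R, (Pt A ⟶ Bm) ≃
      (Module.Grassmannian.functor (R := R) (M := (Module.Dual R (Fin m → R) ⧸ LinearMap.range σ.dualMap))
        (d - δ)).obj A)
    (a : T ⟶ Bp) (b : T ⟶ Bm) :
    ∃ U : T.left.affineOpens, y ∈ U.1 ∧ ∃ f : Γ(T.left, U.1),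
      ((sheafOf (Fitt.ideal R ((Fin n → R) ⧸ LinearMap.range σ) d)).comap T.hom).ideal U = Ideal.span {f} := by
  obtain ⟨_, ⟨U, hU, rfl⟩, hyU, -⟩ :=
    T.left.isBasis_affineOpens.exists_subset_of_mem_open (Set.mem_univ y) isOpen_univ
  let A := secObj T U
  let Np := ep A (secPt T hU ≫ a)
  let Nm := em A (secPt T hU ≫ b)
  let p : PrimeSpectrum A := hU.primeIdealOf ⟨y, hyU⟩
  obtain ⟨xp, ap, hxp, hap, hNp⟩ := exists_inChart_away Np (span_gen σ) p
  obtain ⟨xm, am, hxm, ham, hNm⟩ := exists_inChart_away Nm (span_dualGen σ) p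
  choose Jp hJp using hxp
  choose Jm hJm using hxm
  let c : Γ(T.left, U) := (ap : A) * (am : A)
  let V := T.left.basicOpen c
  have hV : IsAffineOpen V := hU.basicOpen c
  have hyV : y ∈ V := by
    have h1 : p ∈ PrimeSpectrum.basicOpen (ap * am) := by
      rw [PrimeSpectrum.mem_basicOpen]
      exact fun h => (p.2.mem_or_mem h).elim hap ham
    have h2 : hU.primeIdealOf ⟨y, hyU⟩ ∈ hU.fromSpec ⁻¹ᵁ V := by
      rw [hU.fromSpec_preimage_basicOpen]; exact h1
    have h3 : hU.fromSpec (hU.primeIdealOf ⟨y, hyU⟩) ∈ V := h2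
    rwa [hU.fromSpec_primeIdealOf] at h3
  have hle : V ≤ U := T.left.basicOpen_le c
  haveI : Nonempty (V : Scheme.{u}) := ⟨⟨y, hyV⟩⟩
  let B := secObj T V
  haveI : Nontrivial B := inferInstanceAs (Nontrivial Γ(T.left, V))
  let ρ : A →ₐ[R] B :=
    { (T.left.presheaf.map (homOfLE hle).op).hom with
      commutes' := fun r => (RingHom.congr_fun (phi_restrict T.hom hle) r).symm }
  have hu : IsUnit (ρ (ap * am)) := RingedSpace.isUnit_res_basicOpen _ c
  rw [map_mul, IsUnit.mul_iff] at hu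
  have h1 : InChart (gen σ ∘ Jp) (Module.Grassmannian.map ρ Np) := by
    have := hNp B ρ hu.1
    rwa [show gen σ ∘ Jp = xp from funext hJp]
  have h2 : InChart (dualGen σ ∘ Jm) (Module.Grassmannian.map ρ Nm) := by
    have := hNm B ρ hu.2
    rwa [show dualGen σ ∘ Jm = xm from funext hJm]
  obtain ⟨hdn, J, D, hD⟩ :=
    exists_row_factor (gen σ) (LinearMap.toMatrix' σ) (sum_rel_eq_zero (rel_gen σ)) Jp h1
  obtain ⟨hdm, L, E, hE⟩ :=
    exists_row_factor (dualGen σ) (LinearMap.toMatrix' σ)ᵀ (sum_rel_eq_zero (rel_dualGen σ)) Jm h2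
  have hr : m - (d - δ) = n - d := by omega
  let L' : Fin (n - d) → Fin m := L ∘ Fin.cast hr.symm
  let E' : Matrix (Fin m) (Fin (n - d)) B := E.submatrix id (Fin.cast hr.symm)
  have hE' : ((LinearMap.toMatrix' σ).map (algebraMap R B))ᵀ =
      E' * ((LinearMap.toMatrix' σ).map (algebraMap R B))ᵀ.submatrix L' id := by
    rw [← Matrix.transpose_map]
    conv_lhs => rw [hE]
    ext i j
    simp only [Matrix.mul_apply, E', L', Matrix.submatrix_apply, Function.comp_apply, id_eq]
    exact (Equiv.sum_comp (finCongr hr.symm) (fun q =>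
      E i q * ((LinearMap.toMatrix' σ)ᵀ.map (algebraMap R B)) (L q) j)).symm
  refine ⟨⟨V, hV⟩, hyV, (((LinearMap.toMatrix' σ).map (algebraMap R B)).submatrix J L').det, ?_⟩
  rw [ideal_comap_sheafOf, fitt_coker, ← algebraMap_secObj, minorsIdeal_map]
  exact minorsIdeal_eq_span_det _ J L' D E' hD hE'

theorem phi_comp {L : Ideal R} {T : Scheme.{u}} (k : T ⟶ Spec (CommRingCat.of (R ⧸ L))) (U : T.affineOpens) :
    phi (k ≫ Spec.map (CommRingCat.ofHom (Ideal.Quotient.mk L))) U.1 =
      (phi k U.1).comp (Ideal.Quotient.mk L) := by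
  have h := fromSpec_comp (k ≫ Spec.map (CommRingCat.ofHom (Ideal.Quotient.mk L))) U.2
  rw [← Category.assoc, fromSpec_comp k U.2, ← Spec.map_comp] at h
  exact (congrArg CommRingCat.Hom.hom (Spec.map_injective h)).symm

theorem comap_map_quotient {L : Ideal R} (I : Ideal R) {T : Scheme.{u}}
    (k : T ⟶ Spec (CommRingCat.of (R ⧸ L))) :
    (sheafOf (I.map (Ideal.Quotient.mk L))).comap k =
      (sheafOf I).comap (k ≫ Spec.map (CommRingCat.ofHom (Ideal.Quotient.mk L))) := by
  ext U : 2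
  rw [ideal_comap_sheafOf, ideal_comap_sheafOf, Ideal.map_map, phi_comp]

/-- The product of the Quot schemes is the blow-up. -/
theorem result {d δ : ℕ} (hn : n = m + δ) (hd : δ ≤ d) {Bp Bm : Over (Spec (CommRingCat.of R))}
    (ep : ∀ A : CommAlgCat.{u} R, (Pt A ⟶ Bp) ≃
      (Module.Grassmannian.functor (R := R) (M := ((Fin n → R) ⧸ LinearMap.range σ)) d).obj A)
    (em : ∀ A : CommAlgCat.{u} R, (Pt A ⟶ Bm) ≃
      (Module.Grassmannian.functor (R := R) (M := (Module.Dual R (Fin m → R) ⧸ LinearMap.range σ.dualMap))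
        (d - δ)).obj A) :
    Curv2.IsLocPrincipal
        ((Spec.map (CommRingCat.ofHom (Ideal.Quotient.mk (Fitt.ideal R ((Fin n → R) ⧸ LinearMap.range σ) d)))).ker.comap
          (pullback.fst Bp.hom Bm.hom ≫ Bp.hom)) ∧
      ∀ c : pullback Bp.hom Bm.hom ⟶
          Spec (CommRingCat.of (R ⧸ ⨆ j < d, Fitt.ideal R ((Fin n → R) ⧸ LinearMap.range σ) j)),
        c ≫ Spec.map (CommRingCat.ofHom (Ideal.Quotient.mk (⨆ j < d, Fitt.ideal R ((Fin n → R) ⧸ LinearMap.range σ) j))) =
            pullback.fst Bp.hom Bm.hom ≫ Bp.hom →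
          BlowUp.IsEffCartierIdeal
              ((Spec.map (CommRingCat.ofHom (Ideal.Quotient.mk (Fitt.ideal R ((Fin n → R) ⧸ LinearMap.range σ) d)))).ker.comap
                (pullback.fst Bp.hom Bm.hom ≫ Bp.hom)) →
            BlowUp.IsBlowUp c
              (Spec.map (CommRingCat.ofHom (Ideal.Quotient.mk
                ((Fitt.ideal R ((Fin n → R) ⧸ LinearMap.range σ) d).map
                  (Ideal.Quotient.mk (⨆ j < d, Fitt.ideal R ((Fin n → R) ⧸ LinearMap.range σ) j)))))).ker := by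
  let W : Over (Spec (CommRingCat.of R)) := Over.mk (pullback.fst Bp.hom Bm.hom ≫ Bp.hom)
  let pa : W ⟶ Bp := Over.homMk (pullback.fst Bp.hom Bm.hom) rfl
  let pb : W ⟶ Bm := Over.homMk (pullback.snd Bp.hom Bm.hom) pullback.condition.symm
  simp only [Groth.HTopHyper.HSheafABU.ker_SpecMap_mk]
  refine ⟨fun y _ => exists_principal σ hn hd W y ep em pa pb, fun c hc hCart => ⟨?_, ?_⟩⟩
  · rw [comap_map_quotient, hc]
    exact hCart
  intro T k hk
  let s := k ≫ Spec.map (CommRingCat.ofHom (Ideal.Quotient.mk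
    (⨆ j < d, Fitt.ideal R ((Fin n → R) ⧸ LinearMap.range σ) j)))
  let TT : Over (Spec (CommRingCat.of R)) := Over.mk s
  rw [comap_map_quotient] at hk
  have hKeq : ∀ j, Fitt.ideal R (Module.Dual R (Fin m → R) ⧸ LinearMap.range σ.dualMap) j =
      Fitt.ideal R ((Fin n → R) ⧸ LinearMap.range σ) (j + δ) := fun j => by
    rw [fitt_dualCoker, fitt_coker, show n - (j + δ) = m - j by omega]
  have hk' : BlowUp.IsEffCartierIdeal ((sheafOf
      (Fitt.ideal R (Module.Dual R (Fin m → R) ⧸ LinearMap.range σ.dualMap) (d - δ))).comap TT.hom) := by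
    rw [hKeq, Nat.sub_add_cancel hd]; exact hk
  have h0 : ∀ (U : TT.left.affineOpens), ∀ j < d,
      (Fitt.ideal R ((Fin n → R) ⧸ LinearMap.range σ) j).map (phi TT.hom U.1) = ⊥ := fun U j hj => by
    have h1 : (Fitt.ideal R ((Fin n → R) ⧸ LinearMap.range σ) j).map (phi TT.hom U.1) ≤ ⊥ := by
      rw [Ideal.map_le_iff_le_comap]
      intro x hx
      have hxL : Ideal.Quotient.mk (⨆ j < d, Fitt.ideal R ((Fin n → R) ⧸ LinearMap.range σ) j) x = 0 :=
        Ideal.Quotient.eq_zero_iff_mem.2 (le_iSup₂ (f := fun j _ => Fitt.ideal R ((Fin n → R) ⧸ LinearMap.range σ) j) j hj hx)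
      show phi (k ≫ Spec.map (CommRingCat.ofHom (Ideal.Quotient.mk
          (⨆ j < d, Fitt.ideal R ((Fin n → R) ⧸ LinearMap.range σ) j)))) U.1 x = 0
      rw [phi_comp k U, RingHom.comp_apply, hxL, map_zero]
    exact le_bot_iff.1 h1
  obtain ⟨a⟩ := exists_hom_of_isCartier ep (T := TT) hk h0
  obtain ⟨b⟩ := exists_hom_of_isCartier em (T := TT) hk' fun U j hj => by
    rw [hKeq]; exact h0 U _ (by omega)
  let l : T ⟶ pullback Bp.hom Bm.hom := pullback.lift a.left b.left ((Over.w a).trans (Over.w b).symm)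
  refine ⟨l, ?_, fun l' hl' => ?_⟩
  · haveI : IsClosedImmersion (Spec.map (CommRingCat.ofHom (Ideal.Quotient.mk
        (⨆ j < d, Fitt.ideal R ((Fin n → R) ⧸ LinearMap.range σ) j)))) :=
      IsClosedImmersion.spec_of_surjective _ Ideal.Quotient.mk_surjective
    show l ≫ c = k
    rw [← cancel_mono (Spec.map (CommRingCat.ofHom (Ideal.Quotient.mk
      (⨆ j < d, Fitt.ideal R ((Fin n → R) ⧸ LinearMap.range σ) j)))), Category.assoc, hc,
      pullback.lift_fst_assoc]
    exact Over.w a
  · change l' ≫ c = k at hl'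
    let a' : TT ⟶ Bp := Over.homMk (l' ≫ pullback.fst _ _) (by
      show (l' ≫ pullback.fst _ _) ≫ Bp.hom = s
      rw [Category.assoc, ← hc, ← Category.assoc, hl'])
    let b' : TT ⟶ Bm := Over.homMk (l' ≫ pullback.snd _ _) (by
      show (l' ≫ pullback.snd _ _) ≫ Bm.hom = s
      rw [Category.assoc, ← pullback.condition, ← hc, ← Category.assoc, hl'])
    refine pullback.hom_ext ?_ ?_
    · rw [pullback.lift_fst]
      exact congrArg CommaMorphism.left (hom_eq_of_isCartier ep (T := TT) hk a' a)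
    · rw [pullback.lift_snd]
      exact congrArg CommaMorphism.left (hom_eq_of_isCartier em (T := TT) hk' b' b)

end Groth.Misc7.DegeneracyBlowUp
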