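import Groth.Agent.Misc7.DegeneracyBlowUp.Algebra
import Groth.Agent.GrassRep.Abstract
import Groth.Agent.BlowUpBasics.AffineBase

/-!
Morphisms to Quot schemes of locally free quotients from schemes on which the Fitting ideal is
effective Cartier.
-/

set_option autoImplicit false
set_option backward.isDefEq.respectTransparency false
set_option linter.style.haveILetI false

universe u

open CategoryTheory CategoryTheory.Limits AlgebraicGeometry TensorProduct Groth.GrassRep
open Groth.BlowUpBasics

namespace Groth.Misc7.DegeneracyBlowUp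

variable {R : Type u} [CommRing R]

/-- The sections over an open of a scheme over `Spec R` as an `R`-algebra. -/
noncomputable def secObj (T : Over (Spec (CommRingCat.of R))) (U : T.left.Opens) : CommAlgCat.{u} R :=
  letI : Algebra R Γ(T.left, U) := (phi T.hom U).toAlgebra
  CommAlgCat.of R Γ(T.left, U)

theorem algebraMap_secObj (T : Over (Spec (CommRingCat.of R))) (U : T.left.Opens) :
    algebraMap R (secObj T U) = phi T.hom U := rfl

/-- An affine open as a point. -/
noncomputable def secPt (T : Over (Spec (CommRingCat.of R))) {U : T.left.Opens} (hU : IsAffineOpen U) :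
    Pt (secObj T U) ⟶ T :=
  Over.homMk hU.fromSpec (fromSpec_comp T.hom hU)

variable {M : Type u} [AddCommGroup M] [Module R M] {d : ℕ}

/-- Morphisms to the Quot scheme agree when the Fitting ideal pulls back to an effective Cartier
ideal. -/
theorem hom_eq_of_isCartier [Module.Finite R M] {X : Over (Spec (CommRingCat.of R))}
    (e : ∀ A : CommAlgCat.{u} R, (Pt A ⟶ X) ≃ (Module.Grassmannian.functor (R := R) (M := M) d).obj A)
    {T : Over (Spec (CommRingCat.of R))}
    (hT : BlowUp.IsEffCartierIdeal ((sheafOf (Fitt.ideal R M d)).comap T.hom)) (l l' : T ⟶ X) :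
    l = l' := by
  choose U hxU t ht htU using hT
  refine Over.OverMorphism.ext
    ((coverOf (fun x => (U x).2.fromSpec) fun x => ⟨x, by rw [(U x).2.range_fromSpec]; exact hxU x⟩).hom_ext
      _ _ fun x => ?_)
  have hfit : Fitt.ideal (secObj T (U x).1) (secObj T (U x).1 ⊗[R] M) d = Ideal.span {(t x : secObj T (U x).1)} := by
    rw [Groth.Misc3Fitt.ideal_baseChange, algebraMap_secObj, ← ideal_comap_sheafOf]
    exact htU x
  have h : secPt T (U x).2 ≫ l = secPt T (U x).2 ≫ l' := by
    apply (e _).injective
    let tx : secObj T (U x).1 := t x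
    have htx : tx ∈ nonZeroDivisors (secObj T (U x).1) := ht x
    exact Module.Grassmannian.ext ((grass_eq_torsion _ htx hfit).trans (grass_eq_torsion _ htx hfit).symm)
  exact congrArg CommaMorphism.left h

/-- Morphisms to the Quot scheme exist when the Fitting ideal pulls back to an effective Cartier ideal
and the lower ones to zero. -/
theorem exists_hom_of_isCartier [Module.Finite R M] {X : Over (Spec (CommRingCat.of R))}
    (e : ∀ A : CommAlgCat.{u} R, (Pt A ⟶ X) ≃ (Module.Grassmannian.functor (R := R) (M := M) d).obj A)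
    {T : Over (Spec (CommRingCat.of R))}
    (hT : BlowUp.IsEffCartierIdeal ((sheafOf (Fitt.ideal R M d)).comap T.hom))
    (h0 : ∀ (U : T.left.affineOpens), ∀ j < d, (Fitt.ideal R M j).map (phi T.hom U.1) = ⊥) :
    Nonempty (T ⟶ X) := by
  have hC := hT
  choose U hxU t ht htU using hT
  have hN : ∀ x, ∃ N : Module.Grassmannian (secObj T (U x).1) (secObj T (U x).1 ⊗[R] M) d,
      N.toSubmodule = Submodule.torsionBy _ _ (show secObj T (U x).1 from t x) := fun x => by
    let tx : secObj T (U x).1 := t x
    have htx : tx ∈ nonZeroDivisors (secObj T (U x).1) := ht x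
    refine exists_grass htx ?_ fun j hj => ?_
    · rw [Groth.Misc3Fitt.ideal_baseChange, algebraMap_secObj, ← ideal_comap_sheafOf]
      exact htU x
    · rw [Groth.Misc3Fitt.ideal_baseChange, algebraMap_secObj]
      exact h0 _ j hj
  choose N hN' using hN
  let g : ∀ x, Pt (secObj T (U x).1) ⟶ X := fun x => (e _).symm (N x)
  let 𝒰 := coverOf (fun x => (U x).2.fromSpec) fun x => ⟨x, by rw [(U x).2.range_fromSpec]; exact hxU x⟩
  have hc : ∀ x y, pullback.fst (U x).2.fromSpec (U y).2.fromSpec ≫ (g x).left =
      pullback.snd (U x).2.fromSpec (U y).2.fromSpec ≫ (g y).left := fun x y => by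
    let m := pullback.fst (U x).2.fromSpec (U y).2.fromSpec ≫ (U x).2.fromSpec
    let P : Over (Spec (CommRingCat.of R)) := Over.mk (m ≫ T.hom)
    let p : P ⟶ Pt (secObj T (U x).1) := Over.homMk (pullback.fst _ _) (by
      show pullback.fst _ _ ≫ (Pt (secObj T (U x).1)).hom = _
      rw [← Over.w (secPt T (U x).2)]; rfl)
    let q : P ⟶ Pt (secObj T (U y).1) := Over.homMk (pullback.snd _ _) (by
      show pullback.snd _ _ ≫ (Pt (secObj T (U y).1)).hom = _
      rw [← Over.w (secPt T (U y).2)]
      exact ((Category.assoc _ _ _).symm.trans (congrArg (· ≫ T.hom) pullback.condition.symm)).trans rfl)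
    have hP : BlowUp.IsEffCartierIdeal ((sheafOf (Fitt.ideal R M d)).comap P.hom) := by
      show BlowUp.IsEffCartierIdeal ((sheafOf (Fitt.ideal R M d)).comap (m ≫ T.hom))
      rw [Scheme.IdealSheafData.comap_comp]
      exact isEffCartierIdeal_comap_of_flat m hC
    exact congrArg CommaMorphism.left (hom_eq_of_isCartier e hP (p ≫ g x) (q ≫ g y))
  let c₀ := Scheme.Cover.glueMorphisms 𝒰 (fun x => (g x).left) hc
  refine ⟨Over.homMk c₀ (𝒰.hom_ext _ _ fun x => ?_)⟩
  show 𝒰.f x ≫ c₀ ≫ X.hom = 𝒰.f x ≫ T.hom
  rw [← Category.assoc, Scheme.Cover.ι_glueMorphisms 𝒰 _ hc x]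
  exact (Over.w (g x)).trans (Over.w (secPt T (U x).2)).symm

end Groth.Misc7.DegeneracyBlowUp
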